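import Cfsg.Agent.Lib.Helper7.ONSplitA
import Cfsg.Prelude.Def_Spor_HN

/-!
# The Schur multiplier of the presented Harada–Norton group: the abstract part

Let `σ : E → HN` be a central extension of the presented group `HN = ⟨x, y, z, t⟩` and `N = ⟨x, y, z⟩`.  If `N` has a
section `s` in `E`, and an element `h` of `HN` conjugates `x`, `z`, `t` into `N`, and `s z` is the conjugate by a lift
of `h⁻¹` of the value of `s` at `h z h⁻¹`, then the four elements `s x`, `s y`, `s z` and the conjugate of the value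
of `s` at `h t h⁻¹` satisfy all the relators of `HN`: the relators without `t` because `s` is a homomorphism, the four
relators with `t` because each of them holds in a subgroup that is conjugate into `N` (for `[t, y]` one uses that
`y⁶ = t⁵ = 1`).  Hence `σ` splits, and a stem extension that splits is an isomorphism.
-/

set_option autoImplicit false

namespace Cfsg.Agent.Lib.Helper8.HNM

open Cfsg Cfsg.Spor
open Cfsg.Agent.Lib.Helper7.M12Mult Cfsg.Agent.Lib.Helper7.ONSplit
open scoped commutatorElement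

universe u v

section abs

variable {E : Type u} {G : Type v} [Group E] [Group G] (σ : E →* G)

/-- a section of `H` from an isomorphic lift `K` of a subgroup `Q` of index two and a lift `c` of square one, with the
values of the section on the images of `K` and of `c` -/
theorem exists_section_join {H Q : Subgroup G} (K : Subgroup E)
    (hKQ : ∀ k ∈ K, σ k ∈ Q) (hQH : Q ≤ H)
    (hsurj : ∀ q ∈ Q, ∃ k ∈ K, σ k = q)
    (hinj : ∀ k ∈ K, σ k = 1 → k = 1)
    (c : E) (hc2 : c * c = 1) (hcH : σ c ∈ H) (hcQ : σ c ∉ Q)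
    (hn : ∀ k ∈ K, c * k * c⁻¹ ∈ K)
    (hidx : ∀ h ∈ H, h ∈ Q ∨ h * σ c ∈ Q) :
    ∃ s : ↥H →* E, (∀ h : ↥H, σ (s h) = (h : G)) ∧
      (∀ k ∈ K, ∀ hk : σ k ∈ H, s ⟨σ k, hk⟩ = k) ∧ s ⟨σ c, hcH⟩ = c := by
  have hσc2 : σ c * σ c = 1 := by rw [← map_mul, hc2, map_one]
  set L := joinSub K c hc2 hn with hL
  have hLH : ∀ x ∈ L, σ x ∈ H := by
    intro x hx
    rcases hx with hx | hx
    · exact hQH (hKQ x hx)
    · have h1 : σ x = σ (x * c) * (σ c)⁻¹ := by rw [map_mul, mul_inv_cancel_right]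
      rw [h1]
      exact H.mul_mem (hQH (hKQ _ hx)) (H.inv_mem hcH)
  let f : ↥L →* ↥H := (σ.comp L.subtype).codRestrict H (fun x => hLH x.1 x.2)
  have hf : ∀ x : ↥L, ((f x : ↥H) : G) = σ x.1 := fun _ => rfl
  have hinjf : Function.Injective f := by
    rw [injective_iff_map_eq_one]
    intro x hx
    have h1 : σ x.1 = 1 := by rw [← hf, hx]; rfl
    rcases x.2 with h | h
    · exact Subtype.ext (hinj _ h h1)
    · exfalso
      apply hcQ
      have h2 := hKQ _ h
      rwa [map_mul, h1, one_mul] at h2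
  have hsurjf : Function.Surjective f := by
    intro h
    rcases hidx h.1 h.2 with hq | hq
    · obtain ⟨k, hk, e⟩ := hsurj _ hq
      exact ⟨⟨k, Or.inl hk⟩, Subtype.ext e⟩
    · obtain ⟨k, hk, e⟩ := hsurj _ hq
      refine ⟨⟨k * c, Or.inr ?_⟩, Subtype.ext ?_⟩
      · rw [mul_assoc, hc2, mul_one]; exact hk
      · show σ (k * c) = h.1
        rw [map_mul, e, mul_assoc, hσc2, mul_one]
  let e := MulEquiv.ofBijective f ⟨hinjf, hsurjf⟩
  refine ⟨L.subtype.comp e.symm.toMonoidHom, fun h => ?_, fun k hk hkH => ?_, ?_⟩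
  · show σ (e.symm h).1 = h.1
    rw [← hf]
    show ((e (e.symm h) : ↥H) : G) = h.1
    rw [e.apply_symm_apply]
  · have h1 : e ⟨k, Or.inl hk⟩ = ⟨σ k, hkH⟩ := Subtype.ext rfl
    show ((e.symm ⟨σ k, hkH⟩ : ↥L) : E) = k
    rw [← h1, e.symm_apply_apply]
  · have hcL : c ∈ L := Or.inr (by rw [hc2]; exact K.one_mem)
    have h1 : e ⟨c, hcL⟩ = ⟨σ c, hcH⟩ := Subtype.ext rfl
    show ((e.symm ⟨σ c, hcH⟩ : ↥L) : E) = c
    rw [← h1, e.symm_apply_apply]

theorem comm_mul_central_left {M : Type*} [Group M] (a z b : M) (hz : z ∈ Subgroup.center M) :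
    ⁅a * z, b⁆ = ⁅a, b⁆ := by
  rw [commutatorElement_def, commutatorElement_def, mul_inv_rev]
  have h := Subgroup.mem_center_iff.1 hz b
  calc a * z * b * (z⁻¹ * a⁻¹) * b⁻¹ = a * (z * b) * z⁻¹ * a⁻¹ * b⁻¹ := by simp only [mul_assoc]
    _ = a * (b * z) * z⁻¹ * a⁻¹ * b⁻¹ := by rw [h]
    _ = a * b * a⁻¹ * b⁻¹ := by simp only [mul_assoc, mul_inv_cancel_left]

theorem comm_mul_central_right {M : Type*} [Group M] (a b z : M) (hz : z ∈ Subgroup.center M) :
    ⁅a, b * z⁆ = ⁅a, b⁆ := by
  rw [← commutatorElement_inv (b * z) a, comm_mul_central_left b z a hz, commutatorElement_inv]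

/-- a central extension with kernel in the derived subgroup that has a homomorphic section is injective -/
theorem ker_eq_bot_of_hom_section (hcen : σ.ker ≤ Subgroup.center E) (hder : σ.ker ≤ commutator E)
    (φ : G →* E) (hφ : ∀ g, σ (φ g) = g) : σ.ker = ⊥ := by
  have hδmem : ∀ e : E, (φ (σ e))⁻¹ * e ∈ σ.ker := by
    intro e
    rw [MonoidHom.mem_ker, map_mul, map_inv, hφ, inv_mul_cancel]
  have key : ∀ x ∈ commutator E, φ (σ x) = x := by
    intro x hx
    rw [commutator_eq_closure] at hx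
    induction hx using Subgroup.closure_induction with
    | mem y hy =>
      obtain ⟨a, b, rfl⟩ := hy
      have ha : a = φ (σ a) * ((φ (σ a))⁻¹ * a) := by rw [mul_inv_cancel_left]
      have hb : b = φ (σ b) * ((φ (σ b))⁻¹ * b) := by rw [mul_inv_cancel_left]
      rw [map_commutatorElement, map_commutatorElement]
      conv_rhs => rw [ha, hb]
      rw [comm_mul_central_left _ _ _ (hcen (hδmem a)), comm_mul_central_right _ _ _ (hcen (hδmem b))]
    | one => rw [map_one, map_one]
    | mul y z _ _ hy hz => rw [map_mul, map_mul, hy, hz]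
    | inv y _ hy => rw [map_inv, map_inv, hy]
  rw [eq_bot_iff]
  intro z hz
  have h1 := key z (hder hz)
  rw [MonoidHom.mem_ker] at hz
  rw [hz, map_one] at h1
  rw [Subgroup.mem_bot]
  exact h1.symm

end abs

end Cfsg.Agent.Lib.Helper8.HNM
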