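import Cfsg.Agent.Lib.Helper8.HNM.Rel

/-!
# The Schur multiplier of the presented Harada–Norton group: a section of `⟨x, y, z⟩` and one conjugating element
give a splitting homomorphism
-/

set_option autoImplicit false

namespace Cfsg.Agent.Lib.Helper8.HNM

open Cfsg Cfsg.Spor
open scoped commutatorElement

universe u

section hom

variable {E : Type u} [Group E]

theorem conj_pow_inv (a b : E) (n : ℕ) : (a⁻¹ * b * a) ^ n = a⁻¹ * b ^ n * a := by
  have h := conj_pow (a := a⁻¹) (b := b) (i := n)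
  rwa [inv_inv] at h

theorem hn_hom_of_section (σ : E →* HN) (hcen : σ.ker ≤ Subgroup.center E)
    (s : ↥NH →* E) (hs : ∀ n : ↥NH, σ (s n) = (n : HN))
    (ht : E) (nx nz nt : ↥NH)
    (hx : σ ht * gx * (σ ht)⁻¹ = nx) (hz : σ ht * gz * (σ ht)⁻¹ = nz)
    (htt : σ ht * gt * (σ ht)⁻¹ = nt)
    (hsz : s zN = ht⁻¹ * s nz * ht) :
    ∃ φ : HN →* E, ∀ g, σ (φ g) = g := by
  -- relations in the subgroup
  have n5 : nt ^ 5 = 1 := Subtype.ext (by
    rw [Subgroup.coe_pow, ← htt, conj_pow, rel_t5, mul_one, mul_inv_cancel]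
    rfl)
  have n12 : nx⁻¹ * nt * nx * nt ^ 2 = 1 := Subtype.ext (by
    rw [Subgroup.coe_mul, Subgroup.coe_mul, Subgroup.coe_mul, Subgroup.coe_inv, Subgroup.coe_pow,
      ← hx, ← htt]
    have e : (σ ht * gx * (σ ht)⁻¹)⁻¹ * (σ ht * gt * (σ ht)⁻¹) * (σ ht * gx * (σ ht)⁻¹) *
        (σ ht * gt * (σ ht)⁻¹) ^ 2 = σ ht * (gx⁻¹ * gt * gx * gt ^ 2) * (σ ht)⁻¹ := by
      rw [conj_pow]; group
    rw [e, rel_tx, mul_one, mul_inv_cancel]
    rfl)
  have n14 : (nz * nt) ^ 3 = 1 := Subtype.ext (by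
    rw [Subgroup.coe_pow, Subgroup.coe_mul, ← hz, ← htt]
    have e : σ ht * gz * (σ ht)⁻¹ * (σ ht * gt * (σ ht)⁻¹) = σ ht * (gz * gt) * (σ ht)⁻¹ := by group
    rw [e, conj_pow, rel_zt, mul_one, mul_inv_cancel]
    rfl)
  have y6 : yN ^ 6 = 1 := Subtype.ext (by
    rw [Subgroup.coe_pow]
    exact rel_y6)
  -- the four elements
  have σT : σ (ht⁻¹ * s nt * ht) = gt := by
    rw [map_mul, map_mul, map_inv, hs, ← htt]; group
  have r11 : (ht⁻¹ * s nt * ht) ^ 5 = 1 := by
    rw [conj_pow_inv, ← map_pow, n5, map_one, mul_one, inv_mul_cancel]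
  have r14 : (s zN * (ht⁻¹ * s nt * ht)) ^ 3 = 1 := by
    have e : s zN * (ht⁻¹ * s nt * ht) = ht⁻¹ * s (nz * nt) * ht := by
      rw [hsz, map_mul]; group
    rw [e, conj_pow_inv, ← map_pow, n14, map_one, mul_one, inv_mul_cancel]
  have r12 : (s xN)⁻¹ * (ht⁻¹ * s nt * ht) * s xN * (ht⁻¹ * s nt * ht) ^ 2 = 1 := by
    have hζ : (s xN)⁻¹ * (ht⁻¹ * s nx * ht) ∈ σ.ker := by
      rw [MonoidHom.mem_ker, map_mul, map_inv, map_mul, map_mul, map_inv, hs, hs, ← hx]
      show gx⁻¹ * ((σ ht)⁻¹ * (σ ht * gx * (σ ht)⁻¹) * σ ht) = 1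
      group
    have hc := Subgroup.mem_center_iff.1 (hcen hζ)
    have key : (ht⁻¹ * s nx * ht)⁻¹ * (ht⁻¹ * s nt * ht) * (ht⁻¹ * s nx * ht) *
        (ht⁻¹ * s nt * ht) ^ 2 = 1 := by
      have e : (ht⁻¹ * s nx * ht)⁻¹ * (ht⁻¹ * s nt * ht) * (ht⁻¹ * s nx * ht) *
          (ht⁻¹ * s nt * ht) ^ 2 = ht⁻¹ * s (nx⁻¹ * nt * nx * nt ^ 2) * ht := by
        rw [map_mul, map_mul, map_mul, map_inv, map_pow, conj_pow_inv]; group
      rw [e, n12, map_one, mul_one, inv_mul_cancel]
    have hX' : ht⁻¹ * s nx * ht = s xN * ((s xN)⁻¹ * (ht⁻¹ * s nx * ht)) := by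
      rw [mul_inv_cancel_left]
    generalize (s xN)⁻¹ * (ht⁻¹ * s nx * ht) = ζ at hc hX'
    rw [hX'] at key
    have e : (s xN * ζ)⁻¹ * (ht⁻¹ * s nt * ht) * (s xN * ζ) =
        (s xN)⁻¹ * (ht⁻¹ * s nt * ht) * s xN := by
      have h1 := hc ((s xN)⁻¹ * (ht⁻¹ * s nt * ht) * s xN)
      calc (s xN * ζ)⁻¹ * (ht⁻¹ * s nt * ht) * (s xN * ζ)
          = ζ⁻¹ * (((s xN)⁻¹ * (ht⁻¹ * s nt * ht) * s xN) * ζ) := by
            rw [mul_inv_rev]; simp only [mul_assoc]
        _ = ζ⁻¹ * (ζ * ((s xN)⁻¹ * (ht⁻¹ * s nt * ht) * s xN)) := by rw [h1]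
        _ = (s xN)⁻¹ * (ht⁻¹ * s nt * ht) * s xN := by rw [inv_mul_cancel_left]
    rw [e] at key
    exact key
  have r13 : (ht⁻¹ * s nt * ht)⁻¹ * (s yN)⁻¹ * (ht⁻¹ * s nt * ht) * s yN = 1 := by
    generalize hT : ht⁻¹ * s nt * ht = T at σT r11
    generalize hY : s yN = Y
    have hσY : σ Y = gy := by rw [← hY]; exact hs yN
    have hY6 : Y ^ 6 = 1 := by rw [← hY, ← map_pow, y6, map_one]
    have hcker : T⁻¹ * Y⁻¹ * T * Y ∈ σ.ker := by
      rw [MonoidHom.mem_ker, map_mul, map_mul, map_mul, map_inv, map_inv, σT, hσY]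
      exact rel_ty
    have hYT : Y⁻¹ * T * Y = T * (T⁻¹ * Y⁻¹ * T * Y) := by group
    generalize T⁻¹ * Y⁻¹ * T * Y = c at hcker hYT ⊢
    have hcc := Subgroup.mem_center_iff.1 (hcen hcker)
    have hpow : ∀ k : ℕ, (Y ^ k)⁻¹ * T * Y ^ k = T * c ^ k := by
      intro k
      induction k with
      | zero => simp
      | succ k ih =>
        have hck := Subgroup.mem_center_iff.1 (Subgroup.pow_mem _ (hcen hcker) k) Y
        calc (Y ^ (k + 1))⁻¹ * T * Y ^ (k + 1) = Y⁻¹ * ((Y ^ k)⁻¹ * T * Y ^ k) * Y := by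
              rw [pow_succ]; group
          _ = Y⁻¹ * (T * c ^ k) * Y := by rw [ih]
          _ = Y⁻¹ * T * (c ^ k * Y) := by simp only [mul_assoc]
          _ = Y⁻¹ * T * (Y * c ^ k) := by rw [hck]
          _ = (Y⁻¹ * T * Y) * c ^ k := by simp only [mul_assoc]
          _ = T * c * c ^ k := by rw [hYT]
          _ = T * c ^ (k + 1) := by rw [pow_succ', mul_assoc]
    have c6 : c ^ 6 = 1 := by
      have h6 := hpow 6
      rw [hY6, inv_one, one_mul, mul_one] at h6
      exact left_eq_mul.1 h6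
    have c5 : c ^ 5 = 1 := by
      have h1 : (Y⁻¹ * T * Y) ^ 5 = 1 := by rw [conj_pow_inv, r11, mul_one, inv_mul_cancel]
      rw [hYT] at h1
      have hcomm : Commute T c := hcc T
      rw [hcomm.mul_pow, r11, one_mul] at h1
      exact h1
    have h65 : c ^ 6 = c ^ 5 * c := pow_succ c 5
    rw [c6, c5, one_mul] at h65
    exact h65.symm
  -- the homomorphism
  let f : HN.Gen → E := fun a => match a with
    | .x => s xN
    | .y => s yN
    | .z => s zN
    | .t => ht⁻¹ * s nt * ht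
  have hf : ∀ r ∈ relsHN, FreeGroup.lift f r = 1 := by
    intro r hr
    rcases hr with hr | hr
    · exfalso
      simp [coxRelators, coxNodes, HN.edges] at hr
    · have hr' : r ∈ HN.extra := hr
      have hm : r ∈ HN.extra := hr
      simp only [HN.extra, List.mem_cons, List.not_mem_nil, or_false] at hm
      rcases hm with rfl | rfl | rfl | rfl | rfl | rfl | rfl | rfl | rfl | rfl | rfl | rfl | rfl | rfl
      · exact lift_eq_one_of_mem f s rfl rfl rfl _ (by
          apply_rules (maxDepth := 300) [Subgroup.mul_mem, Subgroup.pow_mem, Subgroup.inv_mem,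
            x_mem_cl, y_mem_cl, z_mem_cl]) hr'
      · exact lift_eq_one_of_mem f s rfl rfl rfl _ (by
          apply_rules (maxDepth := 300) [Subgroup.mul_mem, Subgroup.pow_mem, Subgroup.inv_mem,
            x_mem_cl, y_mem_cl, z_mem_cl]) hr'
      · exact lift_eq_one_of_mem f s rfl rfl rfl _ (by
          apply_rules (maxDepth := 300) [Subgroup.mul_mem, Subgroup.pow_mem, Subgroup.inv_mem,
            x_mem_cl, y_mem_cl, z_mem_cl]) hr'
      · exact lift_eq_one_of_mem f s rfl rfl rfl _ (by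
          apply_rules (maxDepth := 300) [Subgroup.mul_mem, Subgroup.pow_mem, Subgroup.inv_mem,
            x_mem_cl, y_mem_cl, z_mem_cl]) hr'
      · exact lift_eq_one_of_mem f s rfl rfl rfl _ (by
          apply_rules (maxDepth := 300) [Subgroup.mul_mem, Subgroup.pow_mem, Subgroup.inv_mem,
            x_mem_cl, y_mem_cl, z_mem_cl]) hr'
      · exact lift_eq_one_of_mem f s rfl rfl rfl _ (by
          apply_rules (maxDepth := 300) [Subgroup.mul_mem, Subgroup.pow_mem, Subgroup.inv_mem,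
            x_mem_cl, y_mem_cl, z_mem_cl]) hr'
      · exact lift_eq_one_of_mem f s rfl rfl rfl _ (by
          apply_rules (maxDepth := 300) [Subgroup.mul_mem, Subgroup.pow_mem, Subgroup.inv_mem,
            x_mem_cl, y_mem_cl, z_mem_cl]) hr'
      · exact lift_eq_one_of_mem f s rfl rfl rfl _ (by
          apply_rules (maxDepth := 300) [Subgroup.mul_mem, Subgroup.pow_mem, Subgroup.inv_mem,
            x_mem_cl, y_mem_cl, z_mem_cl]) hr'
      · exact lift_eq_one_of_mem f s rfl rfl rfl _ (by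
          apply_rules (maxDepth := 300) [Subgroup.mul_mem, Subgroup.pow_mem, Subgroup.inv_mem,
            x_mem_cl, y_mem_cl, z_mem_cl]) hr'
      · exact lift_eq_one_of_mem f s rfl rfl rfl _ (by
          apply_rules (maxDepth := 300) [Subgroup.mul_mem, Subgroup.pow_mem, Subgroup.inv_mem,
            x_mem_cl, y_mem_cl, z_mem_cl]) hr'
      · simp only [HN.t, map_pow, FreeGroup.lift_apply_of]
        exact r11
      · simp only [HN.x, HN.t, map_mul, map_inv, map_pow, FreeGroup.lift_apply_of]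
        exact r12
      · simp only [HN.y, HN.t, map_mul, map_inv, FreeGroup.lift_apply_of]
        exact r13
      · simp only [HN.z, HN.t, map_mul, map_pow, FreeGroup.lift_apply_of]
        exact r14
  refine ⟨PresentedGroup.toGroup hf, ?_⟩
  have hid : σ.comp (PresentedGroup.toGroup hf) = MonoidHom.id HN := by
    apply PresentedGroup.ext
    intro a
    show σ (PresentedGroup.toGroup hf (PresentedGroup.of a)) = PresentedGroup.of a
    rw [PresentedGroup.toGroup.of]
    cases a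
    · exact hs xN
    · exact hs yN
    · exact hs zN
    · exact σT
  intro g
  exact DFunLike.congr_fun hid g

end hom

end Cfsg.Agent.Lib.Helper8.HNM
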