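import Cfsg.Agent.Lib.Helper8.HNM.Abs

/-!
# The Schur multiplier of the presented Harada–Norton group: the relators for a section of `⟨x, y, z⟩`
-/

set_option autoImplicit false

namespace Cfsg.Agent.Lib.Helper8.HNM

open Cfsg Cfsg.Spor
open scoped commutatorElement

universe u

/-- the relators of the presentation -/
abbrev relsHN : Set (FreeGroup HN.Gen) := coxRelators HN.edges ∪ {r | r ∈ HN.extra}

/-- the generators of the presented group -/
def gx : HN := PresentedGroup.mk relsHN HN.x
/-- the generators of the presented group -/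
def gy : HN := PresentedGroup.mk relsHN HN.y
/-- the generators of the presented group -/
def gz : HN := PresentedGroup.mk relsHN HN.z
/-- the generators of the presented group -/
def gt : HN := PresentedGroup.mk relsHN HN.t

/-- the generating set of the subgroup -/
abbrev SN : Set (FreeGroup HN.Gen) := {HN.x, HN.y, HN.z}

/-- the subgroup generated by `x`, `y`, `z` -/
abbrev NH : Subgroup HN := (Subgroup.closure SN).map (PresentedGroup.mk relsHN)

theorem x_mem_cl : HN.x ∈ Subgroup.closure SN := Subgroup.subset_closure (by simp [SN])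
theorem y_mem_cl : HN.y ∈ Subgroup.closure SN := Subgroup.subset_closure (by simp [SN])
theorem z_mem_cl : HN.z ∈ Subgroup.closure SN := Subgroup.subset_closure (by simp [SN])

/-- the generators of the subgroup -/
def xN : ↥NH := ⟨gx, Subgroup.mem_map_of_mem _ x_mem_cl⟩
/-- the generators of the subgroup -/
def yN : ↥NH := ⟨gy, Subgroup.mem_map_of_mem _ y_mem_cl⟩
/-- the generators of the subgroup -/
def zN : ↥NH := ⟨gz, Subgroup.mem_map_of_mem _ z_mem_cl⟩

theorem mk_extra {r : FreeGroup HN.Gen} (hr : r ∈ HN.extra) : PresentedGroup.mk relsHN r = 1 :=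
  PresentedGroup.one_of_mem (Or.inr hr)

theorem rel_y6 : gy ^ 6 = 1 := by
  have h := mk_extra (r := HN.y ^ 6) (by simp [HN.extra])
  rwa [map_pow] at h

theorem rel_t5 : gt ^ 5 = 1 := by
  have h := mk_extra (r := HN.t ^ 5) (by simp [HN.extra])
  rwa [map_pow] at h

theorem rel_tx : gx⁻¹ * gt * gx * gt ^ 2 = 1 := by
  have h := mk_extra (r := (HN.x⁻¹ * HN.t * HN.x) * (HN.t ^ 2)) (by simp [HN.extra])
  simp only [map_mul, map_inv, map_pow] at h
  exact h

theorem rel_ty : gt⁻¹ * gy⁻¹ * gt * gy = 1 := by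
  have h := mk_extra (r := HN.t⁻¹ * HN.y⁻¹ * HN.t * HN.y) (by simp [HN.extra])
  simp only [map_mul, map_inv, map_pow] at h
  exact h

theorem rel_zt : (gz * gt) ^ 3 = 1 := by
  have h := mk_extra (r := (HN.z * HN.t) ^ 3) (by simp [HN.extra])
  simp only [map_mul, map_inv, map_pow] at h
  exact h

section lift

variable {E : Type u} [Group E]

/-- on words in `x`, `y`, `z` the lift of the generators is the section -/
theorem lift_eq_section (f : HN.Gen → E) (s : ↥NH →* E) (hfx : f .x = s xN) (hfy : f .y = s yN)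
    (hfz : f .z = s zN) (w : FreeGroup HN.Gen) (hw : w ∈ Subgroup.closure SN) :
    ∃ h : PresentedGroup.mk relsHN w ∈ NH, FreeGroup.lift f w = s ⟨PresentedGroup.mk relsHN w, h⟩ := by
  induction hw using Subgroup.closure_induction with
  | mem v hv =>
    simp only [SN, Set.mem_insert_iff, Set.mem_singleton_iff] at hv
    rcases hv with rfl | rfl | rfl
    · exact ⟨Subgroup.mem_map_of_mem _ x_mem_cl, by rw [FreeGroup.lift_apply_of, hfx]; rfl⟩
    · exact ⟨Subgroup.mem_map_of_mem _ y_mem_cl, by rw [FreeGroup.lift_apply_of, hfy]; rfl⟩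
    · exact ⟨Subgroup.mem_map_of_mem _ z_mem_cl, by rw [FreeGroup.lift_apply_of, hfz]; rfl⟩
  | one =>
    refine ⟨by rw [map_one]; exact NH.one_mem, ?_⟩
    rw [map_one]
    have : (⟨PresentedGroup.mk relsHN 1, by rw [map_one]; exact NH.one_mem⟩ : ↥NH) = 1 :=
      Subtype.ext (map_one _)
    rw [this, map_one]
  | mul a b _ _ ha hb =>
    obtain ⟨h1, e1⟩ := ha
    obtain ⟨h2, e2⟩ := hb
    refine ⟨by rw [map_mul]; exact NH.mul_mem h1 h2, ?_⟩
    rw [map_mul, e1, e2, ← map_mul]
    congr 1
  | inv a _ ha =>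
    obtain ⟨h1, e1⟩ := ha
    refine ⟨by rw [map_inv]; exact NH.inv_mem h1, ?_⟩
    rw [map_inv, e1, ← map_inv]
    congr 1

/-- the lift of a relator in `x`, `y`, `z` is trivial -/
theorem lift_eq_one_of_mem (f : HN.Gen → E) (s : ↥NH →* E) (hfx : f .x = s xN) (hfy : f .y = s yN)
    (hfz : f .z = s zN) (w : FreeGroup HN.Gen) (hw : w ∈ Subgroup.closure SN) (hr : w ∈ HN.extra) :
    FreeGroup.lift f w = 1 := by
  obtain ⟨h, e⟩ := lift_eq_section f s hfx hfy hfz w hw
  rw [e]
  have : (⟨PresentedGroup.mk relsHN w, h⟩ : ↥NH) = 1 := Subtype.ext (mk_extra hr)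
  rw [this, map_one]

end lift

end Cfsg.Agent.Lib.Helper8.HNM
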