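import Cfsg.Agent.Lib.Helper5.HNA12.Main
import Cfsg.Agent.Lib.Helper5.HNBack.Order
import Cfsg.Agent.Lib.Helper8.HNM.Rel

/-!
# The Schur multiplier of the presented Harada–Norton group: one element conjugates `x`, `z`, `t` into `⟨x, y, z⟩`

The element `h` below maps the row 0 of the coset table of `⟨x, y, z⟩` to a row that is fixed by `x`, `z` and `t`;
the three conjugates are written as words in `x`, `y`, `z`, and the three identities are checked on the three base rows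
of the table (a word that fixes them is trivial).
-/

set_option autoImplicit false
set_option maxRecDepth 1000000

namespace Cfsg.Agent.Lib.Helper8.HNM

open Cfsg Cfsg.Spor

theorem γ_eq : Cfsg.Agent.Lib.Lead.HNP.HNTC.data.γ 0 = gx ∧ Cfsg.Agent.Lib.Lead.HNP.HNTC.data.γ 1 = gx⁻¹ ∧ Cfsg.Agent.Lib.Lead.HNP.HNTC.data.γ 2 = gy ∧ Cfsg.Agent.Lib.Lead.HNP.HNTC.data.γ 3 = gy⁻¹ ∧
    Cfsg.Agent.Lib.Lead.HNP.HNTC.data.γ 4 = gz ∧ Cfsg.Agent.Lib.Lead.HNP.HNTC.data.γ 5 = gz⁻¹ ∧ Cfsg.Agent.Lib.Lead.HNP.HNTC.data.γ 6 = gt ∧ Cfsg.Agent.Lib.Lead.HNP.HNTC.data.γ 7 = gt⁻¹ :=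
  ⟨rfl, rfl, rfl, rfl, rfl, rfl, rfl, rfl⟩

/-- a word that fixes the three base rows is trivial -/
theorem wordG_eq_one {w : List ℕ}
    (h : Cfsg.Agent.Lib.Helper5.HNBack.powOK Cfsg.Agent.Lib.Lead.HNP.HNTC.tab w 1 [1134369, 4006, 0] = true) :
    Cfsg.Agent.Lib.Helper6.SimpG.wordG Cfsg.Agent.Lib.Lead.HNP.HNTC.data w = 1 := by
  have h1 := Cfsg.Agent.Lib.Helper5.HNBack.wordG_pow_eq_one_of_base Cfsg.Agent.Lib.Lead.HNP.HNTC.data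
    Cfsg.Agent.Lib.Helper5.HNA12.chain.2.1 Cfsg.Agent.Lib.Helper5.HNA12.chain.2.2 h
  rwa [pow_one] at h1

/-- the conjugating element -/
def hE : HN := gt * gz * gy * gy * gx * gt * gz * gy⁻¹ * gy⁻¹ * gt⁻¹ * gz * gy⁻¹ * gy⁻¹ * gt * gx * gz * gy⁻¹ * gy⁻¹

/-- the conjugate of `x` -/
def nxN : ↥NH := zN * yN * yN * yN * xN * yN⁻¹ * yN⁻¹ * xN * yN⁻¹ * yN⁻¹ * xN * yN * yN * xN⁻¹ * yN⁻¹ * xN⁻¹ * yN

/-- the conjugate of `z` -/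
def nzN : ↥NH := yN⁻¹ * yN⁻¹ * xN * zN * yN⁻¹ * yN⁻¹ * xN * yN * yN * xN⁻¹ * zN * yN⁻¹ * yN⁻¹ * xN⁻¹ * yN⁻¹ * yN⁻¹

/-- the conjugate of `t` -/
def ntN : ↥NH := yN * yN * xN * zN * yN * yN * zN * yN * yN * xN * yN * yN * xN⁻¹ * yN⁻¹ * yN⁻¹ * xN⁻¹

theorem coe_xN : ((xN : ↥NH) : HN) = gx := rfl
theorem coe_yN : ((yN : ↥NH) : HN) = gy := rfl
theorem coe_zN : ((zN : ↥NH) : HN) = gz := rfl

theorem word_x : Cfsg.Agent.Lib.Helper6.SimpG.wordG Cfsg.Agent.Lib.Lead.HNP.HNTC.data [6, 4, 2, 2, 0, 6, 4, 3, 3, 7, 4, 3, 3, 6, 0, 4, 3, 3, 0, 2, 2, 5, 1, 7, 2, 2, 5, 6, 2, 2, 5, 7, 1, 3, 3, 5, 7, 3, 0, 2, 0, 3, 3, 1, 2, 2, 1, 2, 2, 1, 3, 3, 3, 5] = 1 :=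
  wordG_eq_one (by decide +kernel)

theorem word_z : Cfsg.Agent.Lib.Helper6.SimpG.wordG Cfsg.Agent.Lib.Lead.HNP.HNTC.data [6, 4, 2, 2, 0, 6, 4, 3, 3, 7, 4, 3, 3, 6, 0, 4, 3, 3, 4, 2, 2, 5, 1, 7, 2, 2, 5, 6, 2, 2, 5, 7, 1, 3, 3, 5, 7, 2, 2, 0, 2, 2, 5, 0, 3, 3, 1, 2, 2, 5, 1, 2, 2] = 1 :=
  wordG_eq_one (by decide +kernel)

theorem word_t : Cfsg.Agent.Lib.Helper6.SimpG.wordG Cfsg.Agent.Lib.Lead.HNP.HNTC.data [6, 4, 2, 2, 0, 6, 4, 3, 3, 7, 4, 3, 3, 6, 0, 4, 3, 3, 6, 2, 2, 5, 1, 7, 2, 2, 5, 6, 2, 2, 5, 7, 1, 3, 3, 5, 7, 0, 2, 2, 0, 3, 3, 1, 3, 3, 5, 3, 3, 5, 1, 3, 3] = 1 :=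
  wordG_eq_one (by decide +kernel)

theorem conj_x : hE * gx * hE⁻¹ = (nxN : HN) := by
  have hw := word_x
  obtain ⟨e0, e1, e2, e3, e4, e5, e6, e7⟩ := γ_eq
  simp only [Cfsg.Agent.Lib.Helper6.SimpG.wordG, List.map_cons, List.map_nil, e0, e1, e2, e3, e4, e5, e6, e7] at hw
  rw [← mul_inv_eq_one]
  simp only [hE, nxN, Subgroup.coe_mul, Subgroup.coe_inv, coe_xN, coe_yN, coe_zN, mul_inv_rev, inv_inv,
    mul_assoc]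
  exact hw

theorem conj_z : hE * gz * hE⁻¹ = (nzN : HN) := by
  have hw := word_z
  obtain ⟨e0, e1, e2, e3, e4, e5, e6, e7⟩ := γ_eq
  simp only [Cfsg.Agent.Lib.Helper6.SimpG.wordG, List.map_cons, List.map_nil, e0, e1, e2, e3, e4, e5, e6, e7] at hw
  rw [← mul_inv_eq_one]
  simp only [hE, nzN, Subgroup.coe_mul, Subgroup.coe_inv, coe_xN, coe_yN, coe_zN, mul_inv_rev, inv_inv,
    mul_assoc]
  exact hw

theorem conj_t : hE * gt * hE⁻¹ = (ntN : HN) := by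
  have hw := word_t
  obtain ⟨e0, e1, e2, e3, e4, e5, e6, e7⟩ := γ_eq
  simp only [Cfsg.Agent.Lib.Helper6.SimpG.wordG, List.map_cons, List.map_nil, e0, e1, e2, e3, e4, e5, e6, e7] at hw
  rw [← mul_inv_eq_one]
  simp only [hE, ntN, Subgroup.coe_mul, Subgroup.coe_inv, coe_xN, coe_yN, coe_zN, mul_inv_rev, inv_inv,
    mul_assoc]
  exact hw

end Cfsg.Agent.Lib.Helper8.HNM
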