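import Cfsg.Agent.Lib.Helper8.HNM.Hom
import Cfsg.Agent.Lib.Helper8.HNM.Words
import Cfsg.Agent.Lib.Helper8.CoverMF
import Cfsg.Agent.Lib.Helper7.ONSplitC
import Cfsg.Agent.Lib.Lead.HS.Out
import Cfsg.Agent.S1708
import Cfsg.Agent.S2046

/-!
# The Schur multiplier of the presented Harada–Norton group is trivial

`N = ⟨x, y, z⟩` has a normal subgroup `K` of index two that is a non-split double cover of the Higman–Sims group
(S1708); `K` is perfect and has no proper finite stem extension (the multiplier of HS has order two, S2046).  In a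
finite central extension `σ : E → HN` the group `K` lifts isomorphically, into the derived subgroup of its preimage.
The relators give `x, y ∈ K`, hence `z ∉ K`, and the conjugate `h z h⁻¹` of `z` is a word of `N` with an even number
of letters `z`, so it lies in `K`: conjugating its lift back gives a lift of `z` of square one, and `N` has a section
`s` in `E` with `s z` equal to this lift.  By `hn_hom_of_section` the extension splits, so a stem extension is
injective.
-/

set_option autoImplicit false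

namespace Cfsg.Agent.Lib.Helper8.HNM

open Cfsg Cfsg.Spor
open scoped commutatorElement

/-! ### the Higman–Sims group is perfect -/

theorem perfect_HS : commutator ↥Spor.HS = ⊤ := by
  have hs : IsSimpleGroup ↥Spor.HS := by
    have := Cfsg.Agent.HSP.isSimple_P
    exact Cfsg.Agent.HSP.hsEquiv.isSimpleGroup
  have hcard : Nat.card ↥Spor.HS = 44352000 := by
    rw [Nat.card_congr Cfsg.Agent.HSP.hsEquiv.toEquiv]
    exact Cfsg.Agent.HSP.card_P
  have hfin : Finite ↥Spor.HS := Nat.finite_of_card_ne_zero (by rw [hcard]; norm_num)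
  have hn : (commutator ↥Spor.HS).Normal := by
    rw [commutator_def]
    infer_instance
  rcases hn.eq_bot_or_eq_top with h | h
  · exfalso
    have hc : Subgroup.center ↥Spor.HS = ⊤ := (commutator_eq_bot_iff_center_eq_top ↥Spor.HS).mp h
    let _ : CommGroup ↥Spor.HS := Group.commGroupOfCenterEqTop hc
    have hp : (Nat.card ↥Spor.HS).Prime := IsSimpleGroup.prime_card
    rw [hcard] at hp
    norm_num at hp
  · exact h

/-! ### the relators in the subgroup -/

theorem relN_4 : (xN⁻¹ * yN ^ 2 * xN * yN ^ 3) ^ 3 = 1 := Subtype.ext (by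
  have h := mk_extra (r := ((HN.x⁻¹) * (HN.y ^ 2) * HN.x * (HN.y ^ 3)) ^ 3) (by simp [HN.extra])
  simp only [map_mul, map_inv, map_pow] at h
  exact h)

theorem relN_7 : zN ^ 2 = 1 := Subtype.ext (by
  have h := mk_extra (r := HN.z ^ 2) (by simp [HN.extra])
  simp only [map_pow] at h
  exact h)

theorem relN_10 : zN * ((((yN ^ 3) * xN * yN * xN * yN)⁻¹ * zN * ((yN ^ 3) * xN * yN * xN * yN)) * xN) ^ 3
    = 1 := Subtype.ext (by
  have h := mk_extra (r := HN.z * (((((HN.y ^ 3) * HN.x * HN.y * HN.x * HN.y)⁻¹ * HN.z *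
    ((HN.y ^ 3) * HN.x * HN.y * HN.x * HN.y)) * HN.x) ^ 3)) (by simp [HN.extra])
  simp only [map_mul, map_inv, map_pow] at h
  exact h)

/-- the three generators generate the subgroup -/
theorem closure_gens : Subgroup.closure ({xN, yN, zN} : Set ↥NH) = ⊤ := by
  rw [eq_top_iff]
  rintro ⟨g, hg⟩ -
  obtain ⟨w, hw, rfl⟩ := hg
  have key : ∀ w (hw : w ∈ Subgroup.closure SN),
      (⟨PresentedGroup.mk relsHN w, Subgroup.mem_map_of_mem _ hw⟩ : ↥NH) ∈
        Subgroup.closure ({xN, yN, zN} : Set ↥NH) := by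
    intro w hw
    induction hw using Subgroup.closure_induction with
    | mem v hv =>
      simp only [SN, Set.mem_insert_iff, Set.mem_singleton_iff] at hv
      rcases hv with rfl | rfl | rfl
      · exact Subgroup.subset_closure (by left; rfl)
      · exact Subgroup.subset_closure (by right; left; rfl)
      · exact Subgroup.subset_closure (by right; right; rfl)
    | one =>
      have : (⟨PresentedGroup.mk relsHN 1, Subgroup.mem_map_of_mem _ (Subgroup.one_mem _)⟩ : ↥NH) = 1 :=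
        Subtype.ext (map_one _)
      rw [this]
      exact Subgroup.one_mem _
    | mul a b ha hb iha ihb =>
      have : (⟨PresentedGroup.mk relsHN (a * b), Subgroup.mem_map_of_mem _ (Subgroup.mul_mem _ ha hb)⟩ : ↥NH)
          = ⟨PresentedGroup.mk relsHN a, Subgroup.mem_map_of_mem _ ha⟩ *
            ⟨PresentedGroup.mk relsHN b, Subgroup.mem_map_of_mem _ hb⟩ := Subtype.ext (map_mul _ _ _)
      rw [this]
      exact Subgroup.mul_mem _ iha ihb
    | inv a ha iha =>
      have : (⟨PresentedGroup.mk relsHN a⁻¹, Subgroup.mem_map_of_mem _ (Subgroup.inv_mem _ ha)⟩ : ↥NH)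
          = (⟨PresentedGroup.mk relsHN a, Subgroup.mem_map_of_mem _ ha⟩ : ↥NH)⁻¹ := Subtype.ext (map_inv _ _)
      rw [this]
      exact Subgroup.inv_mem _ iha
  exact key w hw

section idx

variable (K : Subgroup ↥NH) (hK2 : K.index = 2)

include hK2

theorem yN_mem : yN ∈ K := by
  have h : (xN⁻¹ * yN ^ 2 * xN * yN ^ 3) ^ 3 ∈ K := by rw [relN_4]; exact K.one_mem
  simp only [pow_succ, pow_zero, one_mul, Subgroup.mul_mem_iff_of_index_two hK2, inv_mem_iff] at h
  tauto

theorem xN_mem : xN ∈ K := by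
  have h : zN * ((((yN ^ 3) * xN * yN * xN * yN)⁻¹ * zN * ((yN ^ 3) * xN * yN * xN * yN)) * xN) ^ 3 ∈ K := by
    rw [relN_10]; exact K.one_mem
  simp only [pow_succ, pow_zero, one_mul, Subgroup.mul_mem_iff_of_index_two hK2, inv_mem_iff] at h
  tauto

theorem zN_not_mem : zN ∉ K := by
  intro hz
  have hle : Subgroup.closure ({xN, yN, zN} : Set ↥NH) ≤ K := by
    rw [Subgroup.closure_le]
    intro g hg
    simp only [Set.mem_insert_iff, Set.mem_singleton_iff] at hg
    rcases hg with rfl | rfl | rfl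
    · exact xN_mem K hK2
    · exact yN_mem K hK2
    · exact hz
  rw [closure_gens, top_le_iff] at hle
  rw [hle, Subgroup.index_top] at hK2
  norm_num at hK2

theorem nzN_mem : nzN ∈ K := by
  have hx := xN_mem K hK2
  have hy := yN_mem K hK2
  unfold nzN
  simp only [Subgroup.mul_mem_iff_of_index_two hK2, inv_mem_iff, hx, hy]
  tauto

end idx

/-! ### the main theorem -/

theorem hn_stem_ker_eq_bot (E : Type) [Group E] [Finite E] (σ : E →* HN) (hσ : IsStemExtension σ) :
    σ.ker = ⊥ := by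
  obtain ⟨hsurj, hcen, hder⟩ := hσ
  obtain ⟨K, hKn, hK2, hcov⟩ := Cfsg.Agent.S1708.result
  change Subgroup ↥NH at K
  have hperfK : commutator ↥K = ⊤ := Cfsg.Agent.Lib.Helper8.CoverMF.perfect_of_nonsplit_cover perfect_HS hcov
  have hMFK : Cfsg.Agent.Lib.Helper7.M12Mult.MF.{0} ↥K := Cfsg.Agent.Lib.Helper8.CoverMF.MF_of_nonsplit_cover perfect_HS Cfsg.Agent.S2046.result hcov
  -- the image of `K` in `HN`
  set Q : Subgroup HN := K.map NH.subtype with hQ
  let eKQ : ↥K ≃* ↥Q := K.equivMapOfInjective NH.subtype Subtype.coe_injective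
  have hperfQ : commutator ↥Q = ⊤ :=
    Cfsg.Agent.Lib.Helper7.ONSplit.commutator_eq_top_of_surjective eKQ.toMonoidHom eKQ.surjective hperfK
  have hMFQ : Cfsg.Agent.Lib.Helper7.M12Mult.MF.{0} ↥Q := Cfsg.Agent.Lib.Helper7.M12Mult.MF.of_equiv eKQ hMFK
  have hQmem : ∀ n : ↥NH, (n : HN) ∈ Q ↔ n ∈ K := by
    intro n
    constructor
    · rintro ⟨k, hk, e⟩
      have : k = n := Subtype.ext e
      rwa [← this]
    · intro hn
      exact ⟨n, hn, rfl⟩
  have hQN : Q ≤ NH := by
    rintro _ ⟨k, _, rfl⟩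
    exact k.2
  -- the facts on `K`
  have hz : zN ∉ K := zN_not_mem K hK2
  have hnz : nzN ∈ K := nzN_mem K hK2
  -- the lifts
  obtain ⟨ht, hht⟩ := hsurj hE
  obtain ⟨kz, hkz, hkzσ⟩ := Cfsg.Agent.Lib.Helper7.M12Mult.exists_mem_Mt hsurj Q hperfQ (nzN : HN) ((hQmem nzN).2 hnz)
  have hinj : ∀ k ∈ Cfsg.Agent.Lib.Helper7.M12Mult.Mt σ Q, σ k = 1 → k = 1 := fun k hk h1 =>
    Cfsg.Agent.Lib.Helper7.M12Mult.eq_one_of_mem_Mt hsurj hcen Q hperfQ hMFQ hk h1
  have hkz2 : kz * kz = 1 := by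
    apply hinj _ (Subgroup.mul_mem _ hkz hkz)
    rw [map_mul, hkzσ, ← conj_z]
    have e : hE * gz * hE⁻¹ * (hE * gz * hE⁻¹) = hE * (gz * gz) * hE⁻¹ := by group
    have hz2 : gz * gz = 1 := by
      have := congrArg Subtype.val relN_7
      rw [pow_two] at this
      exact this
    rw [e, hz2, mul_one, mul_inv_cancel]
  set c := ht⁻¹ * kz * ht with hc
  have hσc : σ c = gz := by
    rw [hc, map_mul, map_mul, map_inv, hht, hkzσ, ← conj_z]
    group
  have hc2 : c * c = 1 := by
    have e : c * c = ht⁻¹ * (kz * kz) * ht := by rw [hc]; group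
    rw [e, hkz2, mul_one, inv_mul_cancel]
  have hcN : σ c ∈ NH := by rw [hσc]; exact zN.2
  have hcQ : σ c ∉ Q := by
    rw [hσc]
    intro h
    exact hz ((hQmem zN).1 h)
  have hnorm : ∀ k ∈ Cfsg.Agent.Lib.Helper7.M12Mult.Mt σ Q, c * k * c⁻¹ ∈ Cfsg.Agent.Lib.Helper7.M12Mult.Mt σ Q := by
    intro k hk
    apply Cfsg.Agent.Lib.Helper7.ONSplit.conj_mem_Mt σ Q c _ hk
    intro q hq
    obtain ⟨k', hk', rfl⟩ := hq
    rw [hσc]
    have : zN * k' * zN⁻¹ ∈ K := hKn.conj_mem k' hk' zN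
    exact ⟨zN * k' * zN⁻¹, this, rfl⟩
  have hidx : ∀ h ∈ NH, h ∈ Q ∨ h * σ c ∈ Q := by
    intro h hh
    rw [hσc]
    by_cases hk : (⟨h, hh⟩ : ↥NH) ∈ K
    · exact Or.inl ((hQmem ⟨h, hh⟩).2 hk)
    · right
      have : (⟨h, hh⟩ : ↥NH) * zN ∈ K := by
        rw [Subgroup.mul_mem_iff_of_index_two hK2]
        exact ⟨fun h1 => absurd h1 hk, fun h1 => absurd h1 hz⟩
      exact (hQmem (⟨h, hh⟩ * zN)).2 this
  obtain ⟨s, hs, hsK, hsc⟩ := exists_section_join σ (H := NH) (Q := Q) (Cfsg.Agent.Lib.Helper7.M12Mult.Mt σ Q)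
    (fun k hk => Cfsg.Agent.Lib.Helper7.M12Mult.Mt_le σ Q hk) hQN (fun q hq => Cfsg.Agent.Lib.Helper7.M12Mult.exists_mem_Mt hsurj Q hperfQ q hq) hinj c hc2 hcN hcQ
    hnorm hidx
  -- the values of the section
  have hsz : s zN = ht⁻¹ * s nzN * ht := by
    have e1 : (⟨σ c, hcN⟩ : ↥NH) = zN := Subtype.ext hσc
    have h1 : s zN = c := by rw [← e1]; exact hsc
    have hkN : σ kz ∈ NH := by rw [hkzσ]; exact nzN.2
    have e2 : (⟨σ kz, hkN⟩ : ↥NH) = nzN := Subtype.ext hkzσ
    have h2 : s nzN = kz := by rw [← e2]; exact hsK kz hkz hkN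
    rw [h1, h2]
  obtain ⟨φ, hφ⟩ := hn_hom_of_section σ hcen s hs ht nxN nzN ntN
    (by rw [hht]; exact conj_x) (by rw [hht]; exact conj_z) (by rw [hht]; exact conj_t) hsz
  exact ker_eq_bot_of_hom_section σ hcen hder φ hφ

/-- **the Schur multiplier of the presented Harada–Norton group is trivial** -/
theorem hn_multiplier : Cfsg.HasCyclicSchurMultiplier Cfsg.Spor.HN 1 := by
  have hfin : Finite HN := Nat.finite_of_card_ne_zero (by
    rw [show Nat.card HN = 273030912000000 from Cfsg.Agent.Lib.Helper5.HNA12.chain.1]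
    norm_num)
  constructor
  · refine ⟨HN, inferInstance, hfin, MonoidHom.id HN, ⟨fun g => ⟨g, rfl⟩, ?_, ?_⟩, ?_⟩
    · rw [MonoidHom.ker_id]; exact bot_le
    · rw [MonoidHom.ker_id]; exact bot_le
    · rw [MonoidHom.ker_id]
      refine ⟨⟨fun _ => 1, fun _ => 1, fun x => ?_, fun x => ?_⟩, fun _ _ => ?_⟩
      · exact Subsingleton.elim _ _
      · exact Subsingleton.elim _ _
      · exact Subsingleton.elim _ _
  · intro Γ _ _ σ hσ
    have hk := hn_stem_ker_eq_bot Γ σ hσ
    refine ⟨1, fun z => ?_⟩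
    have : z = 1 := Subtype.ext ((Subgroup.eq_bot_iff_forall _).1 hk z.1 z.2)
    exact ⟨1, by rw [this]; rfl⟩

end Cfsg.Agent.Lib.Helper8.HNM
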